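import Cfsg.Agent.H347.HX.Eng

/-!
# Class lists of normal subgroups of the automorphism group of a coloured set (helper347)

* `mem_of_prC`: the preservation of colours checked in chunks;
* `base_of_srt`: a separating base, checked with a sorted list of the points;
* `complete_sub`: every element of a normal subgroup `K ≤ Aut n co` is conjugate in `Aut n co` to an element of the list.
-/

set_option autoImplicit false

namespace Cfsg.Agent.H347.HX

open Subgroup

variable {n : ℕ} {co : ℕ → ℕ → ℕ}

/-- chunk `k` (width `w`) of the check that a function preserves the colours -/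
def prC (w n : ℕ) (co : ℕ → ℕ → ℕ) (X : ℕ → ℕ) (k : ℕ) : Bool :=
  alb w fun i => bif Nat.blt (Nat.add (Nat.mul w k) i) n then
    (alb n fun q => Nat.beq (co (X (Nat.add (Nat.mul w k) i)) (X q)) (co (Nat.add (Nat.mul w k) i) q)) else true

theorem mem_of_prC {c : Equiv.Perm (Fin n)} {X : ℕ → ℕ} (hX : ∀ q : Fin n, (c q : ℕ) = X q) {w m : ℕ} (hw : 0 < w)
    (hm : n ≤ w * m) (h : ∀ k < m, prC w n co X k = true) : c ∈ Aut n co := by
  intro p q
  rw [hX, hX]
  have hp := p.2
  have h1 : (p : ℕ) / w < m := Nat.div_lt_of_lt_mul (lt_of_lt_of_le hp hm)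
  have h2 := of_alb (h _ h1) ((p : ℕ) % w) (Nat.mod_lt _ hw)
  have e : Nat.add (Nat.mul w ((p : ℕ) / w)) ((p : ℕ) % w) = p := Nat.div_add_mod _ _
  rw [e] at h2
  have h3 : Nat.blt (p : ℕ) n = true := by rw [Nat.blt_eq]; exact hp
  rw [h3, cond_true] at h2
  exact Nat.eq_of_beq_eq_true (of_alb h2 q q.2)

/-- signature of a point -/
def sg (co : ℕ → ℕ → ℕ) : List ℕ → ℕ → ℕ
  | [], _ => 0
  | b :: l, y => Nat.add (Nat.mul 16 (sg co l y)) (co b y)

/-- the sorted list of points has increasing signatures -/
def srt (n : ℕ) (co : ℕ → ℕ → ℕ) (base : List ℕ) (T : ℕ → ℕ) : Bool :=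
  bif (base.all fun b => Nat.blt b n) then
    (alb n fun i => bif Nat.blt (T i) n then
      (bif Nat.beq i 0 then true else Nat.blt (sg co base (T (Nat.pred i))) (sg co base (T i))) else false) else false

theorem sg_congr {base : List ℕ} {y z : ℕ} (h : ∀ f ∈ base, co f z = co f y) : sg co base z = sg co base y := by
  induction base with
  | nil => rfl
  | cons b l ih =>
    show Nat.add (Nat.mul 16 (sg co l z)) (co b z) = Nat.add (Nat.mul 16 (sg co l y)) (co b y)
    rw [ih fun f hf => h f (List.mem_cons_of_mem _ hf), h b List.mem_cons_self]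

theorem base_of_srt {base : List ℕ} {T : ℕ → ℕ} (h : srt n co base T = true) (c : ↥(Aut n co))
    (hc : ∀ f ∈ base, Fx c f) : c = 1 := by
  unfold srt at h
  rcases hb : (base.all fun b => Nat.blt b n) with _ | _
  · rw [hb, cond_false] at h; cases h
  rw [hb, cond_true] at h
  have hT : ∀ i < n, T i < n := by
    intro i hi
    have h1 := of_alb h i hi
    rcases h2 : Nat.blt (T i) n with _ | _
    · rw [h2, cond_false] at h1; cases h1
    · rwa [Nat.blt_eq] at h2
  have hs : ∀ i, i + 1 < n → sg co base (T i) < sg co base (T (i + 1)) := by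
    intro i hi
    have h1 := of_alb h (i + 1) hi
    rcases h2 : Nat.blt (T (i + 1)) n with _ | _
    · rw [h2, cond_false] at h1; cases h1
    rw [h2, cond_true] at h1
    have h3 : Nat.beq (i + 1) 0 = false := rfl
    rw [h3, cond_false, Nat.blt_eq] at h1
    exact h1
  have hlt : ∀ d i, i + d + 1 < n → sg co base (T i) < sg co base (T (i + d + 1)) := by
    intro d
    induction d with
    | zero => intro i hi; exact hs i hi
    | succ d ih =>
      intro i hi
      exact (ih i (by omega)).trans (hs (i + d + 1) hi)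
  have hmono : ∀ i j, i < j → j < n → sg co base (T i) < sg co base (T j) := by
    intro i j hij hj
    obtain ⟨d, rfl⟩ : ∃ d, j = i + d + 1 := ⟨j - i - 1, by omega⟩
    exact hlt d i hj
  let φ : Fin n → Fin n := fun i => ⟨T i, hT i i.2⟩
  have hinj : Function.Injective φ := by
    intro i j hij
    have e : T i = T j := congrArg Fin.val hij
    rcases lt_trichotomy (i : ℕ) j with h1 | h1 | h1
    · exact absurd (hmono i j h1 j.2) (by rw [e]; exact lt_irrefl _)
    · exact Fin.ext h1
    · exact absurd (hmono j i h1 i.2) (by rw [e]; exact lt_irrefl _)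
  have hsur : Function.Surjective φ := Finite.surjective_of_injective hinj
  have key : ∀ y z : Fin n, (∀ f ∈ base, co f z = co f y) → z = y := by
    intro y z hyz
    obtain ⟨i, rfl⟩ := hsur y
    obtain ⟨j, rfl⟩ := hsur z
    have e := sg_congr hyz
    rcases lt_trichotomy (i : ℕ) j with h1 | h1 | h1
    · exact absurd (hmono i j h1 j.2) (by rw [show sg co base (T j) = sg co base (T i) from e]; exact lt_irrefl _)
    · rw [Fin.ext h1]
    · exact absurd (hmono j i h1 i.2) (by rw [show sg co base (T j) = sg co base (T i) from e]; exact lt_irrefl _)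
  apply Subtype.ext
  apply Equiv.ext
  intro y
  refine key y _ fun f hf => ?_
  obtain ⟨hlt, hfx⟩ := hc f hf
  have h3 := c.2 ⟨f, hlt⟩ y
  rw [hfx] at h3
  exact h3

/-- **The class list criterion for a normal subgroup** -/
theorem list_sub {G : Type*} [Group G] [Finite G] {K : Subgroup G} (hK : K.Normal) (L : List (G × ℕ))
    (hm : ∀ p ∈ L, p.1 ∈ K) (hc : ∀ p ∈ L, Nat.card ↥(centralizer ({p.1} : Set G)) ≤ p.2)
    (hd : (L.map fun p => ConjClasses.mk p.1).Nodup) (hs : Nat.card K ≤ (L.map fun p => Nat.card G / p.2).sum) {g : G}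
    (hg : g ∈ K) : ∃ p ∈ L, IsConj p.1 g := by
  classical
  have := Fintype.ofFinite G
  by_contra hcon
  push Not at hcon
  have key : ∀ L : List (G × ℕ), (∀ p ∈ L, Nat.card ↥(centralizer ({p.1} : Set G)) ≤ p.2) →
      (L.map fun p => ConjClasses.mk p.1).Nodup →
      (L.map fun p => Nat.card G / p.2).sum ≤ (Finset.univ.filter fun y : G => ∃ p ∈ L, IsConj p.1 y).card := by
    intro L
    induction L with
    | nil => intro _ _; simp
    | cons q L ih =>
      intro hc hd
      rw [List.map_cons, List.nodup_cons] at hd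
      have h1 := ih (fun p hp => hc p (List.mem_cons_of_mem _ hp)) hd.2
      have hdis : Disjoint (Finset.univ.filter fun y : G => IsConj q.1 y)
          (Finset.univ.filter fun y : G => ∃ p ∈ L, IsConj p.1 y) := by
        rw [Finset.disjoint_left]
        intro y hy hy'
        rw [Finset.mem_filter] at hy hy'
        obtain ⟨p, hp, hpy⟩ := hy'.2
        exact hd.1 (List.mem_map.2 ⟨p, hp, ConjClasses.mk_eq_mk_iff_isConj.2 (hpy.trans hy.2.symm)⟩)
      have hun : (Finset.univ.filter fun y : G => ∃ p ∈ q :: L, IsConj p.1 y) =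
          (Finset.univ.filter fun y : G => IsConj q.1 y) ∪ (Finset.univ.filter fun y : G => ∃ p ∈ L, IsConj p.1 y) := by
        ext y
        simp only [Finset.mem_filter, Finset.mem_univ, true_and, Finset.mem_union, List.mem_cons, exists_eq_or_imp]
      have hq : Nat.card G / q.2 ≤ (Finset.univ.filter fun y : G => IsConj q.1 y).card := by
        have h2 := Cfsg.Agent.H235.Ore.ClassList.card_class q.1
        have h3 : Nat.card {y : G // IsConj q.1 y} = (Finset.univ.filter fun y : G => IsConj q.1 y).card := by
          rw [Nat.card_eq_fintype_card, Fintype.card_subtype]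
        rw [← h3]
        have h4 := hc q List.mem_cons_self
        apply Nat.div_le_of_le_mul
        rw [← h2, mul_comm q.2]
        exact Nat.mul_le_mul_left _ h4
      rw [List.map_cons, List.sum_cons, hun, Finset.card_union_of_disjoint hdis]
      exact Nat.add_le_add hq h1
  have h1 := key L hc hd
  have h2 : (Finset.univ.filter fun y : G => ∃ p ∈ L, IsConj p.1 y) ⊂ (Finset.univ.filter fun y : G => y ∈ K) := by
    rw [Finset.ssubset_iff_of_subset]
    · refine ⟨g, Finset.mem_filter.2 ⟨Finset.mem_univ _, hg⟩, fun h => ?_⟩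
      obtain ⟨p, hp, hpg⟩ := (Finset.mem_filter.1 h).2
      exact hcon p hp hpg
    · intro y hy
      obtain ⟨p, hp, hpy⟩ := (Finset.mem_filter.1 hy).2
      obtain ⟨c, rfl⟩ := isConj_iff.1 hpy
      exact Finset.mem_filter.2 ⟨Finset.mem_univ _, hK.conj_mem _ (hm p hp) c⟩
  have h3 := Finset.card_lt_card h2
  have h4 : Nat.card K = (Finset.univ.filter fun y : G => y ∈ K).card := by
    rw [← SetLike.coe_sort_coe, Nat.card_coe_set_eq, ← Set.ncard_coe_finset]
    congr 1
    ext y
    simp
  rw [← h4] at h3
  omega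

/-- **The class list criterion for a normal subgroup of `Aut n co`.** -/
theorem complete_sub {base : List ℕ} (hb : ∀ c : ↥(Aut n co), (∀ f ∈ base, Fx c f) → c = 1) (T : List Ct)
    {K : Subgroup ↥(Aut n co)} (hK : K.Normal)
    (L : List (↥(Aut n co) × Cl)) (hX : ∀ p ∈ L, Rp p.2.X p.1) (hm : ∀ p ∈ L, p.1 ∈ K)
    (hr : ∀ p ∈ L, run n co p.2.X p.2.m base p.2.l [] = true)
    (hd : (L.map fun p => T.map (cnc n co p.2.X)).Nodup)
    (hs : Nat.card K ≤ (L.map fun p => Nat.card ↥(Aut n co) / bd p.2.l).sum) {g : ↥(Aut n co)} (hg : g ∈ K) :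
    ∃ p ∈ L, IsConj p.1 g := by
  have hmap : (L.map fun p => (p.1, bd p.2.l)).map (fun p => ConjClasses.mk p.1) = L.map fun p => ConjClasses.mk p.1 := by
    rw [List.map_map]; rfl
  have h1 : ∀ p ∈ L.map (fun p => (p.1, bd p.2.l)), Nat.card ↥(centralizer ({p.1} : Set ↥(Aut n co))) ≤ p.2 := by
    intro p hp
    obtain ⟨q, hq, rfl⟩ := List.mem_map.1 hp
    exact card_le (hX q hq) hb (hr q hq)
  have h2 : ((L.map fun p => (p.1, bd p.2.l)).map (fun p => ConjClasses.mk p.1)).Nodup := by
    rw [hmap]
    have hk : ∀ p ∈ L, T.map (cnc n co p.2.X) = T.map (fun t => cn t p.1) := by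
      intro p hp
      apply List.map_congr_left
      intro t _
      exact (cn_eq (hX p hp) t).symm
    rw [List.map_congr_left hk] at hd
    let φ : ConjClasses ↥(Aut n co) → List ℕ := fun c =>
      Quotient.liftOn c (fun x => T.map (fun t => cn t x)) fun a b hab => by
        apply List.map_congr_left
        intro t _
        exact cn_isConj t hab
    have hcomp : (L.map fun p => T.map (fun t => cn t p.1)) = (L.map fun p => ConjClasses.mk p.1).map φ := by
      rw [List.map_map]
      rfl
    rw [hcomp] at hd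
    exact List.Nodup.of_map _ hd
  have h3 : Nat.card K ≤
      ((L.map fun p => (p.1, bd p.2.l)).map fun p => Nat.card ↥(Aut n co) / p.2).sum := by
    rw [List.map_map]
    exact hs
  obtain ⟨p, hp, h⟩ := list_sub hK (L.map fun p => (p.1, bd p.2.l))
    (fun p hp => by obtain ⟨q, hq, rfl⟩ := List.mem_map.1 hp; exact hm q hq) h1 h2 h3 hg
  obtain ⟨q, hq, rfl⟩ := List.mem_map.1 hp
  exact ⟨q, hq, h⟩

/-- a simple subgroup of small index is normal -/
theorem normal_of_index {G : Type*} [Group G] [Finite G] (K : Subgroup G) [IsSimpleGroup K]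
    (hi : K.index.factorial < Nat.card K) : K.Normal := by
  have h1 : K.normalCore.index ≤ K.index.factorial := by
    have h2 : K.normalCore.index = Nat.card (MulAction.toPermHom G (G ⧸ K)).range := by
      rw [Subgroup.normalCore_eq_ker, Subgroup.index_ker]
    rw [h2]
    have h3 : Nat.card (Equiv.Perm (G ⧸ K)) = K.index.factorial := by
      classical
      have : Fintype (G ⧸ K) := Fintype.ofFinite _
      rw [Nat.card_eq_fintype_card, Fintype.card_perm, ← Nat.card_eq_fintype_card]
      rfl
    rw [← h3]
    exact Subgroup.card_le_card_group _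
  have h4 : (K.normalCore.subgroupOf K).Normal := inferInstance
  rcases h4.eq_bot_or_eq_top with h5 | h5
  · exfalso
    rw [Subgroup.subgroupOf_eq_bot] at h5
    have h6 : K.normalCore = ⊥ := by
      have h7 := disjoint_iff.1 h5
      rwa [inf_eq_left.2 K.normalCore_le] at h7
    rw [h6, Subgroup.index_bot] at h1
    have h8 := Subgroup.card_le_card_group K
    omega
  · rw [Subgroup.subgroupOf_eq_top] at h5
    have h6 : K.normalCore = K := le_antisymm K.normalCore_le h5
    rw [← h6]
    exact K.normalCore_normal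

end Cfsg.Agent.H347.HX
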