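import Mathlib
import Cfsg.Agent.H235.Ore.ClassList

/-!
# Conjugacy classes of the automorphism group of a coloured set (helper347)

`Aut n co`: the permutations of `Fin n` preserving the colours `co p q`.  `card_le`: upper bounds for centralizers by a
certificate (levels); `cn`: class functions (numbers of points with given colours); everything is checked by the kernel.
Generic in `n` and `co`: usable for every finite group which is the full automorphism group of a coloured set
(generalized polygon, graph).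
-/

set_option autoImplicit false

namespace Cfsg.Agent.H347.HX

open Subgroup

/-! ### Kernel friendly loops -/

/-- number of `k < n` with `P k` -/
def cnt (n : ℕ) (P : ℕ → Bool) : ℕ := Nat.rec 0 (fun k ih => bif P k then Nat.add ih 1 else ih) n

/-- all `k < n` satisfy `P` -/
def alb (n : ℕ) (P : ℕ → Bool) : Bool := Nat.rec true (fun k ih => bif P k then ih else false) n

/-- some `k < n` satisfies `P` -/
def anb (n : ℕ) (P : ℕ → Bool) : Bool := Nat.rec false (fun k ih => bif P k then true else ih) n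

/-- iterates -/
def it (X : ℕ → ℕ) (k y : ℕ) : ℕ := Nat.rec y (fun _ ih => X ih) k

/-- digit of `w` bits -/
def dg (w m T p : ℕ) : ℕ := Nat.land (Nat.shiftRight T (Nat.mul w p)) m

theorem card_filter (n : ℕ) (P : ℕ → Bool) : ((Finset.range n).filter (fun y => P y = true)).card = cnt n P := by
  induction n with
  | zero => rfl
  | succ k ih =>
    have h : cnt (k + 1) P = bif P k then cnt k P + 1 else cnt k P := rfl
    rw [Finset.range_add_one, Finset.filter_insert, h]
    rcases hP : P k with _ | _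
    · rw [if_neg (by simp), cond_false, ih]
    · rw [if_pos rfl, cond_true, Finset.card_insert_of_notMem (by simp), ih]

theorem of_alb {n : ℕ} {P : ℕ → Bool} (h : alb n P = true) : ∀ k < n, P k = true := by
  induction n with
  | zero => intro k hk; exact absurd hk (Nat.not_lt_zero k)
  | succ m ih =>
    have h1 : (bif P m then alb m P else false) = true := h
    intro k hk
    rcases hP : P m with _ | _
    · rw [hP, cond_false] at h1; cases h1
    · rw [hP, cond_true] at h1
      rcases Nat.lt_succ_iff_lt_or_eq.1 hk with h2 | h2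
      · exact ih h1 k h2
      · rw [h2]; exact hP

theorem anb_iff {n : ℕ} {P : ℕ → Bool} : anb n P = true ↔ ∃ k < n, P k = true := by
  induction n with
  | zero => exact ⟨fun h => absurd (show false = true from h) Bool.false_ne_true, fun ⟨k, hk, _⟩ => absurd hk (Nat.not_lt_zero k)⟩
  | succ m ih =>
    have h1 : anb (m + 1) P = bif P m then true else anb m P := rfl
    rw [h1]
    rcases hP : P m with _ | _
    · rw [cond_false, ih]
      constructor
      · rintro ⟨k, hk, h⟩; exact ⟨k, Nat.lt_succ_of_lt hk, h⟩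
      · rintro ⟨k, hk, h⟩
        rcases Nat.lt_succ_iff_lt_or_eq.1 hk with h2 | h2
        · exact ⟨k, h2, h⟩
        · rw [h2, hP] at h; cases h
    · rw [cond_true]
      exact ⟨fun _ => ⟨m, Nat.lt_succ_self m, hP⟩, fun _ => rfl⟩

theorem it_zero (X : ℕ → ℕ) (y : ℕ) : it X 0 y = y := rfl

theorem it_succ (X : ℕ → ℕ) (k y : ℕ) : it X (k + 1) y = X (it X k y) := rfl

/-! ### The group -/

/-- permutations preserving the colours -/
def Aut (n : ℕ) (co : ℕ → ℕ → ℕ) : Subgroup (Equiv.Perm (Fin n)) where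
  carrier := {c | ∀ p q : Fin n, co (c p) (c q) = co p q}
  mul_mem' := by
    intro a b ha hb p q
    rw [Equiv.Perm.mul_apply, Equiv.Perm.mul_apply, ha, hb]
  one_mem' := fun _ _ => rfl
  inv_mem' := by
    intro a ha p q
    have h := ha (a⁻¹ p) (a⁻¹ q)
    have e : ∀ y, a (a⁻¹ y) = y := fun y => a.apply_symm_apply y
    rw [e, e] at h
    exact h.symm

variable {n : ℕ} {co : ℕ → ℕ → ℕ}

theorem mem_Aut {c : Equiv.Perm (Fin n)} : c ∈ Aut n co ↔ ∀ p q : Fin n, co (c p) (c q) = co p q := Iff.rfl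

/-- check that a function preserves the colours -/
def pres (n : ℕ) (co : ℕ → ℕ → ℕ) (X : ℕ → ℕ) : Bool :=
  alb n fun p => alb n fun q => Nat.beq (co (X p) (X q)) (co p q)

theorem mem_of_pres {c : Equiv.Perm (Fin n)} {X : ℕ → ℕ} (hX : ∀ q : Fin n, (c q : ℕ) = X q)
    (h : pres n co X = true) : c ∈ Aut n co := by
  intro p q
  rw [hX, hX]
  exact Nat.eq_of_beq_eq_true (of_alb (of_alb h p p.2) q q.2)

/-- `X` describes `x` -/
def Rp (X : ℕ → ℕ) (x : ↥(Aut n co)) : Prop := ∀ q : Fin n, ((x : Equiv.Perm (Fin n)) q : ℕ) = X q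

theorem Rp.it {X : ℕ → ℕ} {x : ↥(Aut n co)} (h : Rp X x) (k : ℕ) (q : Fin n) :
    (((x ^ k : ↥(Aut n co)) : Equiv.Perm (Fin n)) q : ℕ) = HX.it X k q := by
  induction k with
  | zero => rfl
  | succ k ih =>
    rw [pow_succ', it_succ, ← ih]
    exact h _

theorem ext_of_Rp {X : ℕ → ℕ} {x y : ↥(Aut n co)} (h : Rp X x) (h' : Rp X y) : x = y := by
  apply Subtype.ext
  apply Equiv.ext
  intro q
  exact Fin.ext ((h q).trans (h' q).symm)

theorem pow_eq_one_of {X : ℕ → ℕ} {x : ↥(Aut n co)} (h : Rp X x) {k : ℕ}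
    (hk : (alb n fun q => Nat.beq (HX.it X k q) q) = true) : x ^ k = 1 := by
  apply Subtype.ext
  apply Equiv.ext
  intro q
  apply Fin.ext
  rw [h.it]
  exact Nat.eq_of_beq_eq_true (of_alb hk q q.2)

/-! ### Words -/

/-- value of a word -/
def ev {G : Type*} [Group G] (s : ℕ → G) (w : List ℕ) : G := (w.map s).prod

/-- image of a point under a word -/
def ap (f : ℕ → ℕ → ℕ) : List ℕ → ℕ → ℕ
  | [], p => p
  | l :: w, p => f l (ap f w p)

theorem ev_nil {G : Type*} [Group G] (s : ℕ → G) : ev s [] = 1 := rfl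

theorem ev_cons {G : Type*} [Group G] (s : ℕ → G) (l : ℕ) (w : List ℕ) : ev s (l :: w) = s l * ev s w := by
  unfold ev; rw [List.map_cons, List.prod_cons]

theorem ev_append {G : Type*} [Group G] (s : ℕ → G) (u v : List ℕ) : ev s (u ++ v) = ev s u * ev s v := by
  unfold ev; rw [List.map_append, List.prod_append]

theorem ev_reverse {G : Type*} [Group G] {s : ℕ → G} (hs : ∀ j, s j * s j = 1) (w : List ℕ) :
    ev s w.reverse = (ev s w)⁻¹ := by
  induction w with
  | nil => rw [List.reverse_nil, ev_nil, inv_one]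
  | cons l w ih =>
    rw [List.reverse_cons, ev_append, ih, ev_cons, ev_cons, ev_nil, mul_one, mul_inv_rev]
    congr 1
    exact (inv_eq_of_mul_eq_one_left (hs l)).symm

theorem ev_map {G G' : Type*} [Group G] [Group G'] (s : ℕ → G) (φ : G →* G') (w : List ℕ) :
    φ (ev s w) = ev (fun j => φ (s j)) w := by
  induction w with
  | nil => rw [ev_nil, ev_nil, map_one]
  | cons l w ih => rw [ev_cons, ev_cons, map_mul, ih]

theorem Rp.ev {f : ℕ → ℕ → ℕ} {s : ℕ → ↥(Aut n co)} (h : ∀ j, Rp (f j) (s j)) (w : List ℕ) :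
    Rp (ap f w) (HX.ev s w) := by
  induction w with
  | nil => intro q; rfl
  | cons l w ih =>
    intro q
    rw [ev_cons]
    show (((s l : Equiv.Perm (Fin n)) (((HX.ev s w : ↥(Aut n co)) : Equiv.Perm (Fin n)) q) : Fin n) : ℕ) = f l (ap f w q)
    rw [h l, ih q]

/-- the table of a word -/
def tb (n : ℕ) (f : ℕ → ℕ → ℕ) (w : List ℕ) (X : ℕ → ℕ) : Bool := alb n fun p => Nat.beq (ap f w p) (X p)

theorem Rp.of_tb {f : ℕ → ℕ → ℕ} {s : ℕ → ↥(Aut n co)} (h : ∀ j, Rp (f j) (s j)) {w : List ℕ} {X : ℕ → ℕ}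
    (hw : tb n f w X = true) : Rp X (HX.ev s w) := by
  intro q
  rw [Rp.ev h w q]
  exact Nat.eq_of_beq_eq_true (of_alb hw q q.2)

/-- a table of an involution (or of the identity) -/
def inb (n : ℕ) (f : ℕ → ℕ) : Bool := alb n fun p => bif Nat.blt (f p) n then Nat.beq (f (f p)) p else false

theorem of_inb {f : ℕ → ℕ} (h : inb n f = true) (p : ℕ) (hp : p < n) : f p < n ∧ f (f p) = p := by
  have h1 := of_alb h p hp
  rcases h2 : Nat.blt (f p) n with _ | _
  · rw [h2, cond_false] at h1; cases h1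
  · rw [h2, cond_true] at h1
    rw [Nat.blt_eq] at h2
    exact ⟨h2, Nat.eq_of_beq_eq_true h1⟩

/-- the permutation of a table -/
def ofTb (f : ℕ → ℕ) (h : inb n f = true) : Equiv.Perm (Fin n) where
  toFun p := ⟨f p, (of_inb h p p.2).1⟩
  invFun p := ⟨f p, (of_inb h p p.2).1⟩
  left_inv p := Fin.ext (of_inb h p p.2).2
  right_inv p := Fin.ext (of_inb h p p.2).2

/-! ### Levels -/

/-- a counting test: tests `co z (X ^ k z) = v`, tests `co z (X ^ k y) = v`, the number of `z` -/
structure Qt where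
  js : List (ℕ × ℕ)
  cr : List (ℕ × ℕ)
  v : ℕ

/-- a level: point, tests `co f y = v`, tests `co y (X ^ k y) = v`, counting tests, number of candidates -/
structure Lv where
  p : ℕ
  fs : List (ℕ × ℕ)
  ks : List (ℕ × ℕ)
  cs : List Qt
  n : ℕ

/-- the test of `z` in a counting test -/
def qz (co : ℕ → ℕ → ℕ) (X : ℕ → ℕ) (c : Qt) (y z : ℕ) : Bool :=
  bif (c.js.all fun k => Nat.beq (co z (it X k.1 z)) k.2) then (c.cr.all fun k => Nat.beq (co z (it X k.1 y)) k.2)
  else false

/-- tests of a candidate -/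
def tt (n : ℕ) (co : ℕ → ℕ → ℕ) (X : ℕ → ℕ) (l : Lv) (y : ℕ) : Bool :=
  bif (l.fs.all fun f => Nat.beq (co f.1 y) f.2) then
    (bif (l.ks.all fun k => Nat.beq (co y (it X k.1 y)) k.2) then
      (l.cs.all fun c => Nat.beq (cnt n (qz co X c y)) c.v) else false) else false

/-- membership -/
def elemN (a : ℕ) (l : List ℕ) : Bool := l.any fun b => Nat.beq a b

theorem of_elemN {a : ℕ} {l : List ℕ} (h : elemN a l = true) : a ∈ l := by
  unfold elemN at h
  rw [List.any_eq_true] at h
  obtain ⟨y, hy, h2⟩ := h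
  rw [Nat.eq_of_beq_eq_true h2]
  exact hy

/-- the level is consistent -/
def vOk (n : ℕ) (co : ℕ → ℕ → ℕ) (X : ℕ → ℕ) (F : List ℕ) (l : Lv) : Bool :=
  bif Nat.blt l.p n then (bif (l.fs.all fun f => elemN f.1 F) then tt n co X l l.p else false) else false

/-- the fixed points after a level -/
def nx (X : ℕ → ℕ) : ℕ → ℕ → List ℕ → List ℕ
  | 0, _, F => F
  | m + 1, y, F => nx X m (X y) (y :: F)

/-- the check -/
def run (n : ℕ) (co : ℕ → ℕ → ℕ) (X : ℕ → ℕ) (m : ℕ) (base : List ℕ) : List Lv → List ℕ → Bool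
  | [], F => base.all fun b => elemN b F
  | s :: l, F => bif vOk n co X F s then
      (bif Nat.beq (cnt n (tt n co X s)) s.n then run n co X m base l (nx X m s.p F) else false) else false

/-- the bound -/
def bd : List Lv → ℕ
  | [] => 1
  | s :: l => s.n * bd l

/-- `c` fixes the point `f` -/
def Fx (c : ↥(Aut n co)) (f : ℕ) : Prop := ∃ h : f < n, (c : Equiv.Perm (Fin n)) ⟨f, h⟩ = ⟨f, h⟩

/-- the subgroup of `C` fixing `p` -/
def st (C : Subgroup ↥(Aut n co)) (p : Fin n) : Subgroup ↥(Aut n co) where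
  carrier := {c | c ∈ C ∧ (c : Equiv.Perm (Fin n)) p = p}
  mul_mem' := by
    rintro a b ⟨ha, ha'⟩ ⟨hb, hb'⟩
    refine ⟨mul_mem ha hb, ?_⟩
    rw [Subgroup.coe_mul, Equiv.Perm.mul_apply, hb', ha']
  one_mem' := ⟨one_mem _, rfl⟩
  inv_mem' := by
    rintro a ⟨ha, ha'⟩
    refine ⟨inv_mem ha, ?_⟩
    rw [Subgroup.coe_inv, Equiv.Perm.inv_eq_iff_eq]
    exact ha'.symm

theorem mem_st {C : Subgroup ↥(Aut n co)} {p : Fin n} {c : ↥(Aut n co)} :
    c ∈ st C p ↔ c ∈ C ∧ (c : Equiv.Perm (Fin n)) p = p := Iff.rfl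

theorem orb (C : Subgroup ↥(Aut n co)) (p : Fin n) (S : Finset ℕ)
    (hS : ∀ c ∈ C, (((c : Equiv.Perm (Fin n)) p : Fin n) : ℕ) ∈ S) {m : ℕ} (hm : Nat.card ↥(st C p) ≤ m) :
    Nat.card C ≤ S.card * m := by
  have h2 : MulAction.stabilizer C p = (st C p).subgroupOf C := by
    ext c
    rw [MulAction.mem_stabilizer_iff, Subgroup.mem_subgroupOf, mem_st]
    exact ⟨fun h => ⟨c.2, h⟩, fun h => h.2⟩
  have h3 : Nat.card (MulAction.stabilizer C p) = Nat.card ↥(st C p) := by
    rw [h2]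
    exact Nat.card_congr (Subgroup.subgroupOfEquivOfLe fun c hc => (mem_st.1 hc).1).toEquiv
  have h1 := (MulAction.stabilizer C p).card_mul_index
  rw [MulAction.index_stabilizer, h3, mul_comm] at h1
  rw [← h1]
  refine Nat.mul_le_mul ?_ hm
  have h4 : (MulAction.orbit C p).ncard = ((fun y : Fin n => (y : ℕ)) '' MulAction.orbit C p).ncard :=
    (Set.ncard_image_of_injective _ fun y z h => Fin.ext h).symm
  rw [h4, ← Set.ncard_coe_finset]
  apply Set.ncard_le_ncard _ S.finite_toSet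
  rintro _ ⟨_, ⟨g, rfl⟩, rfl⟩
  exact hS g g.2

theorem comm_apply {x c : ↥(Aut n co)} (hc : c * x = x * c) (q : Fin n) :
    (c : Equiv.Perm (Fin n)) ((x : Equiv.Perm (Fin n)) q) = (x : Equiv.Perm (Fin n)) ((c : Equiv.Perm (Fin n)) q) :=
  congrArg (fun y : ↥(Aut n co) => (y : Equiv.Perm (Fin n)) q) hc

theorem it_comm {X : ℕ → ℕ} {x c : ↥(Aut n co)} (hX : Rp X x) (hc : c * x = x * c) (k : ℕ) (q : Fin n) :
    it X k ((c : Equiv.Perm (Fin n)) q : Fin n) =
      (((c : Equiv.Perm (Fin n)) (((x ^ k : ↥(Aut n co)) : Equiv.Perm (Fin n)) q) : Fin n) : ℕ) := by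
  rw [← hX.it]
  exact congrArg Fin.val (comm_apply ((show Commute c x from hc).pow_right k).eq q).symm

theorem qz_comm {X : ℕ → ℕ} {x c : ↥(Aut n co)} (hX : Rp X x) (hc : c * x = x * c) (t : Qt) (y z : Fin n) :
    qz co X t ((c : Equiv.Perm (Fin n)) y : Fin n) ((c : Equiv.Perm (Fin n)) z : Fin n) = qz co X t y z := by
  unfold qz
  have e1 : (fun k : ℕ × ℕ => Nat.beq (co ((c : Equiv.Perm (Fin n)) z : Fin n)
      (it X k.1 ((c : Equiv.Perm (Fin n)) z : Fin n))) k.2) = fun k => Nat.beq (co z (it X k.1 z)) k.2 := by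
    funext k
    rw [it_comm hX hc, c.2, hX.it]
  have e2 : (fun k : ℕ × ℕ => Nat.beq (co ((c : Equiv.Perm (Fin n)) z : Fin n)
      (it X k.1 ((c : Equiv.Perm (Fin n)) y : Fin n))) k.2) = fun k => Nat.beq (co z (it X k.1 y)) k.2 := by
    funext k
    rw [it_comm hX hc, c.2, hX.it]
  rw [e1, e2]

theorem cnt_comm {X : ℕ → ℕ} {x c : ↥(Aut n co)} (hX : Rp X x) (hc : c * x = x * c) (t : Qt) (y : Fin n) :
    cnt n (qz co X t ((c : Equiv.Perm (Fin n)) y : Fin n)) = cnt n (qz co X t y) := by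
  rw [← card_filter, ← card_filter]
  symm
  have hlt : ∀ a : ℕ, a ∈ (Finset.range n).filter (fun z => qz co X t y z = true) → a < n := fun a ha =>
    Finset.mem_range.1 (Finset.mem_filter.1 ha).1
  refine Finset.card_bij (fun a ha => (((c : Equiv.Perm (Fin n)) ⟨a, hlt a ha⟩ : Fin n) : ℕ)) ?_ ?_ ?_
  · intro a ha
    rw [Finset.mem_filter, Finset.mem_range]
    refine ⟨((c : Equiv.Perm (Fin n)) _).2, ?_⟩
    rw [qz_comm hX hc]
    exact (Finset.mem_filter.1 ha).2
  · intro a ha b hb h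
    have h1 := (c : Equiv.Perm (Fin n)).injective (Fin.ext h)
    exact congrArg Fin.val h1
  · intro b hb
    rw [Finset.mem_filter, Finset.mem_range] at hb
    obtain ⟨z, hz⟩ := (c : Equiv.Perm (Fin n)).surjective ⟨b, hb.1⟩
    have hb' : (((c : Equiv.Perm (Fin n)) z : Fin n) : ℕ) = b := congrArg Fin.val hz
    refine ⟨z, ?_, hb'⟩
    rw [Finset.mem_filter, Finset.mem_range]
    refine ⟨z.2, ?_⟩
    rw [← qz_comm hX hc, hb']
    exact hb.2

theorem tt_spec {X : ℕ → ℕ} {x c : ↥(Aut n co)} (hX : Rp X x) (hc : c * x = x * c) {F : List ℕ}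
    (hF : ∀ f ∈ F, Fx c f) {l : Lv} (hf : (l.fs.all fun f => elemN f.1 F) = true) {p : Fin n}
    (h : tt n co X l p = true) : tt n co X l ((c : Equiv.Perm (Fin n)) p : Fin n) = true := by
  unfold tt at h ⊢
  have h1 : (l.fs.all fun f => Nat.beq (co f.1 p) f.2) = true := by
    rcases hh : (l.fs.all fun f => Nat.beq (co f.1 p) f.2) with _ | _
    · rw [hh, cond_false] at h; cases h
    · rfl
  rw [h1, cond_true] at h
  have h2 : (l.fs.all fun f => Nat.beq (co f.1 ((c : Equiv.Perm (Fin n)) p : Fin n)) f.2) = true := by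
    rw [List.all_eq_true] at h1 hf ⊢
    intro f hfm
    obtain ⟨hlt, hfx⟩ := hF f.1 (of_elemN (hf f hfm))
    have h3 := c.2 ⟨f.1, hlt⟩ p
    rw [hfx] at h3
    have h4 : co f.1 ((c : Equiv.Perm (Fin n)) p : Fin n) = co f.1 p := h3
    rw [h4]
    exact h1 f hfm
  rw [h2, cond_true]
  have e1 : (l.ks.all fun k => Nat.beq (co ((c : Equiv.Perm (Fin n)) p : Fin n)
      (it X k.1 ((c : Equiv.Perm (Fin n)) p : Fin n))) k.2) = l.ks.all fun k => Nat.beq (co p (it X k.1 p)) k.2 := by
    congr 1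
    funext k
    rw [it_comm hX hc, c.2, hX.it]
  have e2 : (l.cs.all fun t => Nat.beq (cnt n (qz co X t ((c : Equiv.Perm (Fin n)) p : Fin n))) t.v) =
      l.cs.all fun t => Nat.beq (cnt n (qz co X t p)) t.v := by
    congr 1
    funext t
    rw [cnt_comm hX hc]
  rw [e1, e2]
  exact h

theorem fx_nx {X : ℕ → ℕ} {x c : ↥(Aut n co)} (hX : Rp X x) (hc : c * x = x * c) :
    ∀ (m : ℕ) (p : Fin n) (F : List ℕ), (∀ f ∈ F, Fx c f) → (c : Equiv.Perm (Fin n)) p = p →
      ∀ f ∈ nx X m p F, Fx c f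
  | 0, _, F, hF, _ => hF
  | m + 1, p, F, hF, hp => by
    intro f hf
    have h1 : (c : Equiv.Perm (Fin n)) ((x : Equiv.Perm (Fin n)) p) = (x : Equiv.Perm (Fin n)) p := by
      rw [comm_apply hc, hp]
    have h2 : f ∈ nx X m ((x : Equiv.Perm (Fin n)) p : Fin n) ((p : ℕ) :: F) := by
      rw [hX p]
      exact hf
    refine fx_nx hX hc m _ _ ?_ h1 f h2
    intro g hg
    rcases List.mem_cons.1 hg with h | h
    · rw [h]; exact ⟨p.2, hp⟩
    · exact hF g h

theorem le_of_run {X : ℕ → ℕ} {x : ↥(Aut n co)} (hX : Rp X x) {base : List ℕ}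
    (hb : ∀ c : ↥(Aut n co), (∀ f ∈ base, Fx c f) → c = 1) {m : ℕ} :
    ∀ (l : List Lv) (F : List ℕ) (C : Subgroup ↥(Aut n co)), (∀ c ∈ C, c * x = x * c) →
      (∀ c ∈ C, ∀ f ∈ F, Fx c f) → run n co X m base l F = true → Nat.card C ≤ bd l
  | [], F, C, _, hF, h => by
    have h1 : (base.all fun b => elemN b F) = true := h
    rw [List.all_eq_true] at h1
    show Nat.card C ≤ 1
    rw [Subgroup.card_le_one_iff_eq_bot, eq_bot_iff_forall]
    intro c hc
    exact hb c fun f hf => hF c hc f (of_elemN (h1 f hf))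
  | s :: l, F, C, hC, hF, h => by
    have h1 : (bif vOk n co X F s then (bif Nat.beq (cnt n (tt n co X s)) s.n then
      run n co X m base l (nx X m s.p F) else false) else false) = true := h
    rcases hv : vOk n co X F s with _ | _
    · rw [hv, cond_false] at h1; cases h1
    rw [hv, cond_true] at h1
    rcases hn : Nat.beq (cnt n (tt n co X s)) s.n with _ | _
    · rw [hn, cond_false] at h1; cases h1
    rw [hn, cond_true] at h1
    unfold vOk at hv
    rcases hp : Nat.blt s.p n with _ | _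
    · rw [hp, cond_false] at hv; cases hv
    rw [hp, cond_true] at hv
    rcases hf : (s.fs.all fun f => elemN f.1 F) with _ | _
    · rw [hf, cond_false] at hv; cases hv
    rw [hf, cond_true] at hv
    rw [Nat.blt_eq] at hp
    show Nat.card C ≤ s.n * bd l
    rw [← Nat.eq_of_beq_eq_true hn, ← card_filter]
    apply orb C ⟨s.p, hp⟩
    · intro c hc
      rw [Finset.mem_filter, Finset.mem_range]
      exact ⟨((c : Equiv.Perm (Fin n)) _).2, tt_spec hX (hC c hc) (hF c hc) hf (p := ⟨s.p, hp⟩) hv⟩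
    · refine le_of_run hX hb l (nx X m s.p F) _ (fun c hc => hC c (mem_st.1 hc).1) (fun c hc => ?_) h1
      exact fx_nx hX (hC c (mem_st.1 hc).1) m ⟨s.p, hp⟩ F (hF c (mem_st.1 hc).1) (mem_st.1 hc).2

/-- **Upper bound for a centralizer** -/
theorem card_le {X : ℕ → ℕ} {x : ↥(Aut n co)} (hX : Rp X x) {base : List ℕ}
    (hb : ∀ c : ↥(Aut n co), (∀ f ∈ base, Fx c f) → c = 1) {m : ℕ} {l : List Lv}
    (h : run n co X m base l [] = true) : Nat.card ↥(centralizer ({x} : Set ↥(Aut n co))) ≤ bd l :=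
  le_of_run hX hb l [] _ (fun _ hc => mem_centralizer_singleton_iff.1 hc) (fun _ _ _ hf => absurd hf List.not_mem_nil) h

/-- **Upper bound for the order** -/
theorem card_le_all {base : List ℕ} (hb : ∀ c : ↥(Aut n co), (∀ f ∈ base, Fx c f) → c = 1) {l : List Lv}
    (h : run n co (fun y => y) 1 base l [] = true) : Nat.card ↥(Aut n co) ≤ bd l := by
  have h1 := le_of_run (n := n) (co := co) (x := 1) (X := fun y => y) (fun _ => rfl) hb l [] ⊤
    (fun c _ => by rw [mul_one, one_mul]) (fun _ _ _ hf => absurd hf List.not_mem_nil) h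
  rwa [Subgroup.card_top] at h1

/-- the base separates the points -/
def sep (n : ℕ) (co : ℕ → ℕ → ℕ) (base : List ℕ) : Bool :=
  bif (base.all fun b => Nat.blt b n) then
    alb n fun y => alb y fun z => bif (base.all fun f => Nat.beq (co f z) (co f y)) then false else true
  else false

theorem base_of_sep {base : List ℕ} (h : sep n co base = true) (c : ↥(Aut n co)) (hc : ∀ f ∈ base, Fx c f) :
    c = 1 := by
  unfold sep at h
  rcases hb : (base.all fun b => Nat.blt b n) with _ | _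
  · rw [hb, cond_false] at h; cases h
  rw [hb, cond_true] at h
  have key : ∀ y z : Fin n, (z : ℕ) < y → (∀ f ∈ base, co f z = co f y) → False := by
    intro y z hzy hf
    have h1 := of_alb (of_alb h y y.2) z hzy
    have h2 : (base.all fun f => Nat.beq (co f z) (co f y)) = true := by
      rw [List.all_eq_true]
      intro f hfm
      rw [hf f hfm]
      exact Nat.beq_refl _
    rw [h2, cond_true] at h1
    cases h1
  have hcol : ∀ y : Fin n, ∀ f ∈ base, co f ((c : Equiv.Perm (Fin n)) y : Fin n) = co f y := by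
    intro y f hf
    obtain ⟨hlt, hfx⟩ := hc f hf
    have h3 := c.2 ⟨f, hlt⟩ y
    rw [hfx] at h3
    exact h3
  apply Subtype.ext
  apply Equiv.ext
  intro y
  show (c : Equiv.Perm (Fin n)) y = y
  by_contra hne
  rcases lt_trichotomy (((c : Equiv.Perm (Fin n)) y : Fin n) : ℕ) (y : ℕ) with h1 | h1 | h1
  · exact key y _ h1 (hcol y)
  · exact hne (Fin.ext h1)
  · exact key _ y h1 fun f hf => (hcol y f hf).symm

/-! ### Class functions -/

/-- tests for a class function: tests of `q`, tests of `s`, tests `co s (X ^ k q) = v` -/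
structure Ct where
  ks : List (ℕ × ℕ)
  js : List (ℕ × ℕ)
  cr : List (ℕ × ℕ)

/-- computed value -/
def cnc (n : ℕ) (co : ℕ → ℕ → ℕ) (X : ℕ → ℕ) (t : Ct) : ℕ :=
  cnt n fun q => bif (t.ks.all fun k => Nat.beq (co q (it X k.1 q)) k.2) then
    (anb n fun s => bif (t.js.all fun k => Nat.beq (co s (it X k.1 s)) k.2) then
      (t.cr.all fun k => Nat.beq (co s (it X k.1 q)) k.2) else false) else false

/-- predicate -/
def CP (t : Ct) (x : ↥(Aut n co)) (q : Fin n) : Prop :=
  (∀ k ∈ t.ks, co q (((x ^ k.1 : ↥(Aut n co)) : Equiv.Perm (Fin n)) q : Fin n) = k.2) ∧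
    ∃ s : Fin n, (∀ k ∈ t.js, co s (((x ^ k.1 : ↥(Aut n co)) : Equiv.Perm (Fin n)) s : Fin n) = k.2) ∧
      ∀ k ∈ t.cr, co s (((x ^ k.1 : ↥(Aut n co)) : Equiv.Perm (Fin n)) q : Fin n) = k.2

open Classical in
/-- the class function -/
noncomputable def cn (t : Ct) (x : ↥(Aut n co)) : ℕ := ((Finset.univ : Finset (Fin n)).filter (CP t x)).card

theorem inv_self (g : ↥(Aut n co)) (y : Fin n) :
    (g : Equiv.Perm (Fin n))⁻¹ ((g : Equiv.Perm (Fin n)) y) = y := Equiv.symm_apply_apply _ y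

theorem CP_conj (t : Ct) (x g : ↥(Aut n co)) (q : Fin n) :
    CP t (g * x * g⁻¹) ((g : Equiv.Perm (Fin n)) q) ↔ CP t x q := by
  have e : ∀ (k : ℕ) (y : Fin n), ((((g * x * g⁻¹) ^ k : ↥(Aut n co)) : Equiv.Perm (Fin n))
      ((g : Equiv.Perm (Fin n)) y) : Fin n) = (g : Equiv.Perm (Fin n)) (((x ^ k : ↥(Aut n co)) : Equiv.Perm (Fin n)) y) := by
    intro k y
    rw [conj_pow]
    show (g : Equiv.Perm (Fin n)) (((x ^ k : ↥(Aut n co)) : Equiv.Perm (Fin n))
      ((g : Equiv.Perm (Fin n))⁻¹ ((g : Equiv.Perm (Fin n)) y))) = _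
    rw [inv_self g]
  unfold CP
  constructor
  · rintro ⟨h1, s, h2, h3⟩
    refine ⟨fun k hk => ?_, (g : Equiv.Perm (Fin n))⁻¹ s, fun k hk => ?_, fun k hk => ?_⟩
    · have := h1 k hk
      rw [e, g.2] at this
      exact this
    · have := h2 k hk
      obtain ⟨s', rfl⟩ := (g : Equiv.Perm (Fin n)).surjective s
      rw [e, g.2] at this
      rw [inv_self g]
      exact this
    · have := h3 k hk
      obtain ⟨s', rfl⟩ := (g : Equiv.Perm (Fin n)).surjective s
      rw [e, g.2] at this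
      rw [inv_self g]
      exact this
  · rintro ⟨h1, s, h2, h3⟩
    refine ⟨fun k hk => ?_, (g : Equiv.Perm (Fin n)) s, fun k hk => ?_, fun k hk => ?_⟩
    · rw [e, g.2]; exact h1 k hk
    · rw [e, g.2]; exact h2 k hk
    · rw [e, g.2]; exact h3 k hk

theorem cn_conj (t : Ct) (x g : ↥(Aut n co)) : cn t (g * x * g⁻¹) = cn t x := by
  classical
  unfold cn
  symm
  apply Finset.card_bij (fun q _ => (g : Equiv.Perm (Fin n)) q)
  · intro q hq
    rw [Finset.mem_filter] at hq ⊢
    exact ⟨Finset.mem_univ _, (CP_conj t x g q).2 hq.2⟩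
  · intro a _ b _ h
    exact (g : Equiv.Perm (Fin n)).injective h
  · intro b hb
    rw [Finset.mem_filter] at hb
    obtain ⟨q, rfl⟩ := (g : Equiv.Perm (Fin n)).surjective b
    refine ⟨q, ?_, rfl⟩
    rw [Finset.mem_filter]
    exact ⟨Finset.mem_univ _, (CP_conj t x g q).1 hb.2⟩

theorem cn_isConj (t : Ct) {x y : ↥(Aut n co)} (h : IsConj x y) : cn t x = cn t y := by
  obtain ⟨g, rfl⟩ := isConj_iff.1 h
  exact (cn_conj t x g).symm

theorem cn_eq {X : ℕ → ℕ} {x : ↥(Aut n co)} (hX : Rp X x) (t : Ct) : cn t x = cnc n co X t := by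
  classical
  unfold cn cnc
  rw [← card_filter]
  refine Finset.card_bij (fun (q : Fin n) _ => (q : ℕ)) ?_ ?_ ?_
  · intro q hq
    rw [Finset.mem_filter] at hq
    obtain ⟨-, h1, s, h2, h3⟩ := hq
    rw [Finset.mem_filter, Finset.mem_range]
    refine ⟨q.2, ?_⟩
    have e1 : (t.ks.all fun k => Nat.beq (co q (it X k.1 q)) k.2) = true := by
      rw [List.all_eq_true]
      intro k hk
      rw [← hX.it, h1 k hk]
      exact Nat.beq_refl _
    rw [e1, cond_true, anb_iff]
    refine ⟨s, s.2, ?_⟩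
    have e2 : (t.js.all fun k => Nat.beq (co s (it X k.1 s)) k.2) = true := by
      rw [List.all_eq_true]
      intro k hk
      rw [← hX.it, h2 k hk]
      exact Nat.beq_refl _
    rw [e2, cond_true, List.all_eq_true]
    intro k hk
    rw [← hX.it, h3 k hk]
    exact Nat.beq_refl _
  · intro a _ b _ h
    exact Fin.ext h
  · intro b hb
    rw [Finset.mem_filter, Finset.mem_range] at hb
    obtain ⟨hlt, h⟩ := hb
    refine ⟨⟨b, hlt⟩, ?_, rfl⟩
    rw [Finset.mem_filter]
    refine ⟨Finset.mem_univ _, ?_⟩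
    rcases e1 : (t.ks.all fun k => Nat.beq (co b (it X k.1 b)) k.2) with _ | _
    · rw [e1, cond_false] at h; cases h
    rw [e1, cond_true, anb_iff] at h
    obtain ⟨s, hs, h⟩ := h
    rcases e2 : (t.js.all fun k => Nat.beq (co s (it X k.1 s)) k.2) with _ | _
    · rw [e2, cond_false] at h; cases h
    rw [e2, cond_true, List.all_eq_true] at h
    rw [List.all_eq_true] at e1 e2
    refine ⟨fun k hk => ?_, ⟨s, hs⟩, fun k hk => ?_, fun k hk => ?_⟩
    · rw [hX.it]; exact Nat.eq_of_beq_eq_true (e1 k hk)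
    · rw [hX.it]; exact Nat.eq_of_beq_eq_true (e2 k hk)
    · rw [hX.it]; exact Nat.eq_of_beq_eq_true (h k hk)

/-! ### Complete lists -/

/-- a class: table, exponent, levels -/
structure Cl where
  X : ℕ → ℕ
  m : ℕ
  l : List Lv

/-- **The class list criterion for `Aut n co`.** -/
theorem complete {base : List ℕ} (hb : ∀ c : ↥(Aut n co), (∀ f ∈ base, Fx c f) → c = 1) (T : List Ct)
    (L : List (↥(Aut n co) × Cl)) (hX : ∀ p ∈ L, Rp p.2.X p.1)
    (hr : ∀ p ∈ L, run n co p.2.X p.2.m base p.2.l [] = true)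
    (hd : (L.map fun p => T.map (cnc n co p.2.X)).Nodup)
    (hs : Nat.card ↥(Aut n co) ≤ (L.map fun p => Nat.card ↥(Aut n co) / bd p.2.l).sum) (g : ↥(Aut n co)) :
    ∃ p ∈ L, IsConj p.1 g := by
  have hmap : (L.map fun p => (p.1, bd p.2.l)).map (fun p => ConjClasses.mk p.1) = L.map fun p => ConjClasses.mk p.1 := by
    rw [List.map_map]; rfl
  have h1 : ∀ p ∈ L.map (fun p => (p.1, bd p.2.l)), Nat.card ↥(centralizer ({p.1} : Set ↥(Aut n co))) ≤ p.2 := by
    intro p hp
    obtain ⟨q, hq, rfl⟩ := List.mem_map.1 hp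
    exact card_le (hX q hq) hb (hr q hq)
  have h2 : ((L.map fun p => (p.1, bd p.2.l)).map (fun p => ConjClasses.mk p.1)).Nodup := by
    rw [hmap]
    have hk : ∀ p ∈ L, T.map (cnc n co p.2.X) = T.map (fun t => cn t p.1) := by
      intro p hp
      apply List.map_congr_left
      intro t _
      exact (cn_eq (hX p hp) t).symm
    rw [List.map_congr_left hk] at hd
    let φ : ConjClasses ↥(Aut n co) → List ℕ := fun c =>
      Quotient.liftOn c (fun x => T.map (fun t => cn t x)) fun a b hab => by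
        apply List.map_congr_left
        intro t _
        exact cn_isConj t hab
    have hcomp : (L.map fun p => T.map (fun t => cn t p.1)) = (L.map fun p => ConjClasses.mk p.1).map φ := by
      rw [List.map_map]
      rfl
    rw [hcomp] at hd
    exact List.Nodup.of_map _ hd
  have h3 : Nat.card ↥(Aut n co) ≤
      ((L.map fun p => (p.1, bd p.2.l)).map fun p => Nat.card ↥(Aut n co) / p.2).sum := by
    rw [List.map_map]
    exact hs
  obtain ⟨p, hp, h⟩ := Cfsg.Agent.H235.Ore.ClassList.complete (L.map fun p => (p.1, bd p.2.l)) h1 h2 h3 g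
  obtain ⟨q, hq, rfl⟩ := List.mem_map.1 hp
  exact ⟨q, hq, h⟩

end Cfsg.Agent.H347.HX
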